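import Mathlib

/-!
# Presentation of a finitely generated algebra by homogeneous relations of one degree

`x : Fin n → B` generators of the `A`-algebra `B`, `1 = ∑ c i • x i`.  For `m` large the ideal of
relations is generated by `1 - ∑ c i X i` and the relations which are homogeneous of degree `m`.
-/

set_option autoImplicit false

namespace Groth.Agent.ResProp.EF.K889

open MvPolynomial

universe u v w

section

variable {A : Type u} {B : Type v} {σ : Type w} [CommRing A] [CommRing B] [Algebra A B] [Fintype σ]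

/-- the linear form `∑ c i X i`. -/
noncomputable def lin (c : σ → A) : MvPolynomial σ A := ∑ i, C (c i) * X i

lemma lin_isHomogeneous (c : σ → A) : (lin c).IsHomogeneous 1 :=
  IsHomogeneous.sum _ _ _ fun i _ => by
    simpa using (isHomogeneous_C σ (c i)).mul (isHomogeneous_X A i)

lemma aeval_lin (x : σ → B) (c : σ → A) : aeval x (lin c) = ∑ i, c i • x i := by
  simp [lin, Algebra.smul_def]

/-- homogenization of `p` in degree `m` with the linear form `lin c`. -/
noncomputable def homog (c : σ → A) (m : ℕ) (p : MvPolynomial σ A) : MvPolynomial σ A :=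
  ∑ d ∈ Finset.range (m + 1), lin c ^ (m - d) * homogeneousComponent d p

lemma homog_isHomogeneous (c : σ → A) (m : ℕ) (p : MvPolynomial σ A) :
    (homog c m p).IsHomogeneous m := by
  refine IsHomogeneous.sum _ _ _ fun d hd => ?_
  have h1 := ((lin_isHomogeneous c).pow (m - d)).mul (homogeneousComponent_isHomogeneous d p)
  have h2 : 1 * (m - d) + d = m := by
    have := Finset.mem_range.mp hd; omega
  rwa [h2] at h1

omit [Fintype σ] in
lemma sum_comp_eq (m : ℕ) (p : MvPolynomial σ A) (hp : p.totalDegree ≤ m) :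
    ∑ d ∈ Finset.range (m + 1), homogeneousComponent d p = p := by
  rw [← Finset.sum_subset (Finset.range_subset_range.mpr (Nat.succ_le_succ hp))
    (fun d _ hd => homogeneousComponent_eq_zero _ _ (by
      simpa [Nat.lt_succ_iff] using hd))]
  exact sum_homogeneousComponent p

lemma homog_sub_mem (c : σ → A) (m : ℕ) (p : MvPolynomial σ A) (hp : p.totalDegree ≤ m) :
    p - homog c m p ∈ Ideal.span {1 - lin c} := by
  have h : p - homog c m p =
      ∑ d ∈ Finset.range (m + 1), (1 - lin c ^ (m - d)) * homogeneousComponent d p := by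
    have h1 : ∑ d ∈ Finset.range (m + 1), (1 - lin c ^ (m - d)) * homogeneousComponent d p =
        ∑ d ∈ Finset.range (m + 1), homogeneousComponent d p - homog c m p := by
      rw [homog, ← Finset.sum_sub_distrib]
      exact Finset.sum_congr rfl fun d _ => by ring
    rw [h1, sum_comp_eq m p hp]
  rw [h]
  refine Ideal.sum_mem _ fun d _ => Ideal.mul_mem_right _ _ ?_
  rw [Ideal.mem_span_singleton]
  simpa using sub_dvd_pow_sub_pow (1 : MvPolynomial σ A) (lin c) (m - d)

lemma aeval_homog (x : σ → B) (c : σ → A) (hc : ∑ i, c i • x i = 1) (m : ℕ)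
    (p : MvPolynomial σ A) (hp : p.totalDegree ≤ m) :
    aeval x (homog c m p) = aeval x p := by
  have h := homog_sub_mem c m p hp
  rw [Ideal.mem_span_singleton] at h
  obtain ⟨q, hq⟩ := h
  have h2 : aeval x (p - homog c m p) = 0 := by
    rw [hq, map_mul, map_sub, map_one, aeval_lin, hc, sub_self, zero_mul]
  rw [map_sub, sub_eq_zero] at h2
  exact h2.symm

/-- **Presentation**: for all large `m` the relations are generated by `1 - ∑ c i X i` and the
relations which are homogeneous of degree `m`. -/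
theorem exists_ker_eq_span [IsNoetherianRing A] (x : σ → B) (c : σ → A)
    (hc : ∑ i, c i • x i = 1) :
    ∃ m₀ : ℕ, ∀ m ≥ m₀, RingHom.ker (aeval x : MvPolynomial σ A →ₐ[A] B) =
      Ideal.span ({1 - lin c} ∪ {p | p.IsHomogeneous m ∧ aeval x p = 0}) := by
  obtain ⟨s, hs⟩ := (isNoetherianRing_iff_ideal_fg (MvPolynomial σ A)).mp inferInstance
    (RingHom.ker (aeval x : MvPolynomial σ A →ₐ[A] B))
  refine ⟨s.sup totalDegree, fun m hm => le_antisymm ?_ ?_⟩
  · rw [← hs, Ideal.span_le]
    intro p hp
    have hd : p.totalDegree ≤ m := le_trans (Finset.le_sup (f := totalDegree) hp) hm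
    have hp0 : aeval x p = 0 := by
      have : p ∈ RingHom.ker (aeval x : MvPolynomial σ A →ₐ[A] B) := hs ▸ Ideal.subset_span hp
      exact this
    have e : p = (p - homog c m p) + homog c m p := by ring
    rw [SetLike.mem_coe, e]
    refine Ideal.add_mem _ (Ideal.span_mono Set.subset_union_left (homog_sub_mem c m p hd))
      (Ideal.subset_span (Or.inr ⟨homog_isHomogeneous c m p, ?_⟩))
    rw [aeval_homog x c hc m p hd, hp0]
  · rw [Ideal.span_le]
    rintro p (rfl | ⟨-, hp⟩)
    · change aeval x (1 - lin c) = 0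
      rw [map_sub, map_one, aeval_lin, hc, sub_self]
    · exact hp

end


open TensorProduct

section bc

variable {A O B B' : Type*} {σ : Type*} [CommRing A] [CommRing O] [CommRing B] [CommRing B']
  [Algebra A O] [Algebra A B] [Algebra A B'] [Algebra O B'] [Algebra B B']
  [IsScalarTower A O B'] [IsScalarTower A B B']

lemma ker_aeval_tensor (x : σ → B) (hx : Function.Surjective (aeval x : MvPolynomial σ A →ₐ[A] B)) :
    RingHom.ker (aeval (fun i => (1 : O) ⊗ₜ[A] x i) : MvPolynomial σ O →ₐ[O] O ⊗[A] B) =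
      (RingHom.ker (aeval x : MvPolynomial σ A →ₐ[A] B)).map
        (MvPolynomial.map (algebraMap A O)) := by
  have h1 : (aeval (fun i => (1 : O) ⊗ₜ[A] x i) : MvPolynomial σ O →ₐ[O] O ⊗[A] B) =
      (Algebra.TensorProduct.map (AlgHom.id O O) (aeval x : MvPolynomial σ A →ₐ[A] B)).comp
        (algebraTensorAlgEquiv A O).symm.toAlgHom := by
    ext i
    simp
  have h2 := Algebra.TensorProduct.lTensor_ker (R := A) (A := O)
    (aeval x : MvPolynomial σ A →ₐ[A] B) hx
  apply le_antisymm
  · intro p hp
    have hp1 : (algebraTensorAlgEquiv A O).symm p ∈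
        (RingHom.ker (aeval x : MvPolynomial σ A →ₐ[A] B)).map
          (Algebra.TensorProduct.includeRight : MvPolynomial σ A →ₐ[A] O ⊗[A] MvPolynomial σ A) := by
      rw [← h2]
      rw [RingHom.mem_ker, h1] at hp
      exact hp
    have hp2 := Ideal.mem_map_of_mem (algebraTensorAlgEquiv (σ := σ) A O) hp1
    rw [AlgEquiv.apply_symm_apply] at hp2
    have h3 : (RingHom.ker (aeval x : MvPolynomial σ A →ₐ[A] B)).map
        (Algebra.TensorProduct.includeRight : MvPolynomial σ A →ₐ[A] O ⊗[A] MvPolynomial σ A) ≤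
        Ideal.comap (algebraTensorAlgEquiv (σ := σ) A O)
          ((RingHom.ker (aeval x : MvPolynomial σ A →ₐ[A] B)).map
            (MvPolynomial.map (algebraMap A O))) := by
      rw [Ideal.map_le_iff_le_comap]
      intro q hq
      change algebraTensorAlgEquiv A O ((1 : O) ⊗ₜ[A] q) ∈ (Ideal.map _ _ : Ideal _)
      rw [algebraTensorAlgEquiv_tmul, one_smul]
      exact Ideal.mem_map_of_mem _ hq
    exact (Ideal.map_le_iff_le_comap.mpr h3) hp2
  · rw [Ideal.map_le_iff_le_comap]
    intro q hq
    change aeval (fun i => (1 : O) ⊗ₜ[A] x i) (MvPolynomial.map (algebraMap A O) q) = 0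
    rw [h1]
    change Algebra.TensorProduct.map (AlgHom.id O O) (aeval x)
      ((algebraTensorAlgEquiv A O).symm (MvPolynomial.map (algebraMap A O) q)) = 0
    rw [algebraTensorAlgEquiv_symm_map, Algebra.TensorProduct.map_tmul]
    rw [show aeval x q = 0 from hq, TensorProduct.tmul_zero]

/-- Base change of the kernel of a presentation along a pushout. -/
theorem ker_aeval_pushout [Algebra.IsPushout A O B B'] (x : σ → B)
    (hx : Function.Surjective (aeval x : MvPolynomial σ A →ₐ[A] B)) :
    RingHom.ker (aeval (fun i => algebraMap B B' (x i)) : MvPolynomial σ O →ₐ[O] B') =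
      (RingHom.ker (aeval x : MvPolynomial σ A →ₐ[A] B)).map
        (MvPolynomial.map (algebraMap A O)) := by
  rw [← ker_aeval_tensor (O := O) x hx]
  have h1 : (aeval (fun i => algebraMap B B' (x i)) : MvPolynomial σ O →ₐ[O] B') =
      (Algebra.IsPushout.equiv A O B B').toAlgHom.comp
        (aeval (fun i => (1 : O) ⊗ₜ[A] x i)) := by
    ext i
    simp [Algebra.IsPushout.equiv_tmul]
  ext p
  rw [RingHom.mem_ker, RingHom.mem_ker, h1]
  change (Algebra.IsPushout.equiv A O B B') _ = 0 ↔ _
  rw [map_eq_zero_iff _ (Algebra.IsPushout.equiv A O B B').injective]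
  rfl

lemma aeval_surjective_pushout [Algebra.IsPushout A O B B'] (x : σ → B)
    (hx : Function.Surjective (aeval x : MvPolynomial σ A →ₐ[A] B)) :
    Function.Surjective (aeval (fun i => algebraMap B B' (x i)) : MvPolynomial σ O →ₐ[O] B') := by
  intro b
  obtain ⟨t, rfl⟩ := (Algebra.IsPushout.equiv A O B B').surjective b
  induction t with
  | zero => exact ⟨0, by simp⟩
  | add s t hs ht =>
    obtain ⟨p, hp⟩ := hs
    obtain ⟨q, hq⟩ := ht
    exact ⟨p + q, by rw [map_add, hp, hq, map_add]⟩
  | tmul o b =>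
    obtain ⟨p, rfl⟩ := hx b
    refine ⟨C o * MvPolynomial.map (algebraMap A O) p, ?_⟩
    rw [map_mul, aeval_C, Algebra.IsPushout.equiv_tmul]
    congr 1
    rw [aeval_map_algebraMap, ← aeval_algebraMap_apply]
    rfl

end bc

section gens

variable {O B' : Type*} {σ ι κ : Type*} [CommRing O] [CommRing B'] [Algebra O B']
  [Fintype σ] [Fintype ι] [Fintype κ]

/-- Change of generators: `q : O^σ ↠ O^ι`, `j : O^ι → B'`, `x i = j (q (e i))`. -/
noncomputable def chg (q : σ → ι → O) : MvPolynomial σ O →ₐ[O] MvPolynomial ι O :=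
  aeval fun i => lin (q i)

omit [Fintype σ] in
lemma aeval_comp_chg (q : σ → ι → O) (y : ι → B') (x : σ → B')
    (hxy : ∀ i, x i = ∑ k, q i k • y k) :
    (aeval y : MvPolynomial ι O →ₐ[O] B').comp (chg q) = aeval x := by
  ext i
  simp [chg, aeval_lin, hxy]

lemma lin_sum_smul {τ : Type*} (s : Finset τ) (a : τ → O) (q : τ → ι → O) :
    lin (fun k => ∑ i ∈ s, a i * q i k) = ∑ i ∈ s, C (a i) * lin (q i) := by
  simp only [lin, map_sum, map_mul, Finset.sum_mul, Finset.mul_sum]
  rw [Finset.sum_comm]
  exact Finset.sum_congr rfl fun i _ => Finset.sum_congr rfl fun k _ => by ring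

lemma chg_surjective [DecidableEq ι] (q : σ → ι → O)
    (hq : ∀ k : ι, ∃ a : σ → O, ∀ l, ∑ i, a i * q i l = if l = k then 1 else 0) :
    Function.Surjective (chg q) := by
  rw [← AlgHom.range_eq_top, eq_top_iff, ← adjoin_range_X, Algebra.adjoin_le_iff]
  rintro _ ⟨k, rfl⟩
  obtain ⟨a, ha⟩ := hq k
  refine ⟨lin a, ?_⟩
  change chg q (lin a) = X k
  rw [lin, map_sum]
  have h1 : ∀ i, chg q (C (a i) * X i) = C (a i) * lin (q i) := fun i => by
    rw [map_mul]
    simp [chg]
  simp only [h1]
  rw [← lin_sum_smul]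
  have h2 : (fun k => ∑ i, a i * q i k) = fun l => if l = k then 1 else 0 := funext ha
  rw [h2, lin]
  simp

omit [Fintype σ] in
lemma chg_isHomogeneous (q : σ → ι → O) {p : MvPolynomial σ O} {m : ℕ} (hp : p.IsHomogeneous m) :
    (chg q p).IsHomogeneous m := by
  have h := hp.aeval (fun i => lin (q i)) (n := 1) (fun i => lin_isHomogeneous (q i))
  simpa [chg] using h

lemma chg_lin (q : σ → ι → O) (c : σ → O) :
    chg q (lin c) = lin (fun k => ∑ i, c i * q i k) := by
  rw [lin_sum_smul, lin, map_sum]
  exact Finset.sum_congr rfl fun i _ => by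
    rw [map_mul]
    simp [chg]

/-- Change of generators in a presentation by `1 - lin` and homogeneous relations of degree `m`. -/
theorem ker_chg [DecidableEq ι] (q : σ → ι → O)
    (hq : ∀ k : ι, ∃ a : σ → O, ∀ l, ∑ i, a i * q i l = if l = k then 1 else 0)
    (y : ι → B') (x : σ → B') (hxy : ∀ i, x i = ∑ k, q i k • y k) (c : σ → O) (m : ℕ)
    (P : Set (MvPolynomial σ O)) (hP : ∀ p ∈ P, p.IsHomogeneous m ∧ aeval x p = 0)
    (hc : ∑ i, c i • x i = 1)
    (hx : RingHom.ker (aeval x : MvPolynomial σ O →ₐ[O] B') = Ideal.span ({1 - lin c} ∪ P)) :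
    RingHom.ker (aeval y : MvPolynomial ι O →ₐ[O] B') =
      Ideal.span ({1 - lin (fun k => ∑ i, c i * q i k)} ∪
        {p | p.IsHomogeneous m ∧ aeval y p = 0}) := by
  have hcomp := aeval_comp_chg q y x hxy
  have hcomp' : ∀ p, aeval y (chg q p) = aeval x p := fun p => by rw [← hcomp]; rfl
  apply le_antisymm
  · intro p hp
    obtain ⟨p', rfl⟩ := chg_surjective q hq p
    have h1 : p' ∈ RingHom.ker (aeval x : MvPolynomial σ O →ₐ[O] B') := by
      rw [RingHom.mem_ker, ← hcomp']
      exact hp
    rw [hx] at h1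
    have h2 := Ideal.mem_map_of_mem (chg q) h1
    rw [Ideal.map_span] at h2
    refine Ideal.span_mono ?_ h2
    rintro _ ⟨r, (rfl | hr), rfl⟩
    · left
      rw [Set.mem_singleton_iff, map_sub, map_one, chg_lin]
    · right
      exact ⟨chg_isHomogeneous q (hP r hr).1, by rw [hcomp', (hP r hr).2]⟩
  · rw [Ideal.span_le]
    rintro p (rfl | ⟨-, hp⟩)
    · rw [SetLike.mem_coe, RingHom.mem_ker, map_sub, map_one, ← chg_lin, hcomp', aeval_lin, hc,
        sub_self]
    · exact hp

end gens

end Groth.Agent.ResProp.EF.K889
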