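import Groth.Agent.ResProp.EF.K743.Trans

/-!
# F7 = `K743.StmtRel1`: linear relations among the `x_j` kill `Q₁`
-/

set_option autoImplicit false

universe u

open Groth.Agent.Grpsch.AffGrpd

namespace Groth.Agent.ResProp.EF.K889

open K743

theorem stmtRel1 : StmtRel1.{u} := by
  intro A Γ _ _ G X m K _ x P R u hu a
  -- the vector `d`
  set d : Fin P.r₁ → R.L := fun a' => ∑ j, R.γ (G.t (u j)) * ∑ k, R.γ (G.i (X.c k j)) * R.y (P.V₁ k a') with hd
  have hd0 : d = 0 := by
    apply P.inj₁ R.y d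
    intro T' _ f h e
    have hβ : h.comp G.s = ((f.comp R.γ).comp G.i).comp G.t := by
      rw [RingHom.comp_assoc, G.i_t, e, RingHom.comp_assoc, RingHom.comp_assoc, R.hγ]
    have hc := X.hc h ((f.comp R.γ).comp G.i) hβ
    have h1 : ∀ j, f (R.γ (G.t (u j))) = G.comp h ((f.comp R.γ).comp G.i) hβ (G.s (u j)) := by
      intro j
      have e1 := RingHom.congr_fun (G.comp_s h ((f.comp R.γ).comp G.i) hβ) (u j)
      have e2 := RingHom.congr_fun G.i_s (u j)
      simp only [RingHom.comp_apply] at e1 e2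
      rw [← e2]
      exact e1.symm
    have h2 : ∑ a, P.w₁ (f.comp R.y) h e a * f (d a) =
        ∑ j, f (R.γ (G.t (u j))) * ∑ k, h (X.x k) * f (R.γ (G.i (X.c k j))) := by
      simp only [hd, map_sum, map_mul, Finset.mul_sum]
      rw [Finset.sum_comm]
      refine Finset.sum_congr rfl fun j _ => ?_
      rw [Finset.sum_comm]
      refine Finset.sum_congr rfl fun k _ => ?_
      rw [P.hw₁ (f.comp R.y) h e k, Finset.sum_mul, Finset.mul_sum]
      refine Finset.sum_congr rfl fun a' _ => ?_
      rw [RingHom.comp_apply]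
      ring
    rw [h2]
    have h3 : ∀ j, f (R.γ (G.t (u j))) * ∑ k, h (X.x k) * f (R.γ (G.i (X.c k j))) =
        G.comp h ((f.comp R.γ).comp G.i) hβ (G.s (u j) * X.x j) := by
      intro j
      rw [map_mul, ← h1, hc]
      rfl
    rw [Finset.sum_congr rfl fun j _ => h3 j, ← map_sum, hu, map_zero]
  have h4 : (LRing.DL P R).subtype (∑ j, (LRing.frameData P R).ι (u j) * (LRing.frameData P R).Q₁ j a) =
      ∑ a', R.l₁.1 a a' * d a' := by
    have h5 : ∀ j, (LRing.DL P R).subtype ((LRing.frameData P R).ι (u j) * (LRing.frameData P R).Q₁ j a) =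
        R.γ (G.t (u j)) * ∑ k, R.γ (G.i (X.c k j)) * ∑ a', R.l₁.1 a a' * R.y (P.V₁ k a') := fun j => rfl
    refine (map_sum (LRing.DL P R).subtype _ _).trans ?_
    refine (Finset.sum_congr rfl fun j _ => h5 j).trans ?_
    simp only [hd, Finset.mul_sum]
    rw [Finset.sum_comm]
    conv_rhs => rw [Finset.sum_comm]
    conv_lhs => rw [Finset.sum_comm]
    refine Finset.sum_congr rfl fun j _ => ?_
    rw [Finset.sum_comm]
    refine Finset.sum_congr rfl fun a' _ => Finset.sum_congr rfl fun k _ => ?_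
    ring
  apply Subtype.ext
  change (LRing.DL P R).subtype (∑ j, (LRing.frameData P R).ι (u j) * (LRing.frameData P R).Q₁ j a) = 0
  rw [h4, hd0]
  simp

end Groth.Agent.ResProp.EF.K889
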